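import Groth.Agent.ArtFunLib.ObsHR
import Groth.Agent.RegLoc6.Basic
import Mathlib.RingTheory.Ideal.KrullsHeightTheorem
import Mathlib.RingTheory.Filtration
import Mathlib.RingTheory.RegularLocalRing.Polynomial
import Mathlib.RingTheory.EssentialFiniteness

/-! Dimension bounds from an obstruction theory. -/

set_option autoImplicit false
universe u v

open CategoryTheory ArtFun IsLocalRing TensorProduct

namespace Groth.Agent.ArtFunLib.ObsBound

open ObsHR

variable {k : Type u} [Field k]

section Obj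

variable {P : Type u} [CommRing P] [IsLocalRing P] [IsNoetherianRing P] [Algebra k P]

/-- A quotient by an open proper ideal, as an object. -/
theorem exists_obj (resP : P →ₐ[k] k) (I : Ideal P) (hI : I ≤ maximalIdeal P) (i : ℕ)
    (hi : maximalIdeal P ^ i ≤ I) :
    ∃ (C : Art k k) (π : P →ₐ[k] C), Function.Surjective π ∧ RingHom.ker π = I ∧ C.res.comp π = resP := by
  haveI : Nontrivial (P ⧸ I) :=
    Ideal.Quotient.nontrivial_iff.2 fun h => (maximalIdeal.isMaximal P).ne_top (top_le_iff.1 (h ▸ hI))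
  haveI : IsLocalRing (P ⧸ I) := IsLocalRing.of_surjective' _ Ideal.Quotient.mk_surjective
  haveI : IsArtinianRing (P ⧸ I) := by
    refine (isArtinianRing_iff_isNilpotent_maximalIdeal (P ⧸ I)).2 ⟨i, ?_⟩
    rw [← IsLocalRing.map_maximalIdeal_of_surjective (Ideal.Quotient.mk I) Ideal.Quotient.mk_surjective,
      ← Ideal.map_pow, Submodule.zero_eq_bot, eq_bot_iff, ← Ideal.map_quotient_self I]
    exact Ideal.map_mono hi
  let res : P ⧸ I →ₐ[k] k := Ideal.Quotient.liftₐ I resP fun a ha => (res_eq_zero_iff (resB := resP) a).2 (hI ha)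
  exact ⟨Art.of (P ⧸ I) res fun c => ⟨algebraMap k (P ⧸ I) c, res.commutes c⟩, Ideal.Quotient.mkₐ k I,
    Ideal.Quotient.mkₐ_surjective k I, Ideal.Quotient.mkₐ_ker k I, Ideal.Quotient.liftₐ_comp _ _ _⟩

end Obj

theorem eq_sum_coord {W N : Type u} [AddCommGroup W] [Module k W] [AddCommGroup N] [Module k N] {ι : Type}
    [Fintype ι] (b : Module.Basis ι k W) (t : W ⊗[k] N) :
    t = ∑ j, b j ⊗ₜ[k] (TensorProduct.lid k N (LinearMap.rTensor N (b.coord j) t)) := by
  induction t using TensorProduct.induction_on with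
  | zero => simp
  | tmul w n =>
    simp only [LinearMap.rTensor_tmul, TensorProduct.lid_tmul, tmul_smul]
    conv_lhs => rw [← b.sum_repr w, TensorProduct.sum_tmul]
    exact Finset.sum_congr rfl fun j _ => rfl
  | add x y hx hy =>
    simp only [map_add, tmul_add, Finset.sum_add_distrib]
    rw [← hx, ← hy]

/-- Every element lifts along a semismall extension after dividing the kernel by a subspace of dimension at most `d`. -/
def LiftsUpTo (F : Art k k ⥤ Type v) (d : ℕ) : Prop :=
  ∀ ⦃C' C : Art k k⦄ (p : C' ⟶ C), Art.IsSemismallExt p → ∀ u : F.obj C,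
    ∃ (κ : Fin d → ↥(RingHom.ker p.toAlgHom)) (K : Ideal C') (hK : K ≤ maximalIdeal C')
      (hKJ : K ≤ RingHom.ker p.toAlgHom), K ≤ Ideal.span (Set.range fun i => (κ i : C')) ∧
        ∃ v, F.map (Art.quotFactor hK p hKJ) v = u

theorem isSemismallExt_quot {C' C : Art k k} {p : C' ⟶ C} (hsemi : Art.IsSemismallExt p) {K : Ideal C'}
    (hKm : K ≤ maximalIdeal C') (hKJ : K ≤ RingHom.ker p.toAlgHom) :
    Art.IsSemismallExt (Art.quotFactor hKm p hKJ) := by
  refine ⟨fun y => ?_, eq_bot_iff.2 (Ideal.mul_le.2 fun x hx y hy => ?_)⟩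
  · obtain ⟨z, hz⟩ := hsemi.1 y; exact ⟨Art.quotMk C' K hKm z, hz⟩
  · obtain ⟨x, rfl⟩ := Art.quotMk_surjective C' K hKm x
    obtain ⟨y, rfl⟩ := Art.quotMk_surjective C' K hKm y
    have hxy : x * y = 0 := by
      rw [← Ideal.mem_bot, ← hsemi.2]
      refine Ideal.mul_mem_mul ?_ hy
      rw [Art.mem_maximalIdeal_iff] at hx ⊢
      exact hx
    rw [Ideal.mem_bot]
    show Art.quotMk C' K hKm x * Art.quotMk C' K hKm y = 0
    exact ((map_mul (Art.quotMk C' K hKm).toAlgHom x y).symm.trans (congrArg _ hxy)).trans (map_zero _)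

theorem liftsUpTo_of_obsTheory {F : Art k k ⥤ Type v} {W : Type u} [AddCommGroup W] [Module k W]
    [Module.Finite k W] (T : ObsTheory F W) : LiftsUpTo F (Module.finrank k W) := by
  intro C' C p hp u
  classical
  let bW := Module.finBasis k W
  let κ : Fin (Module.finrank k W) → ↥(RingHom.ker p.toAlgHom) := fun j =>
    TensorProduct.lid k _ (LinearMap.rTensor _ (bW.coord j) (T.obs p hp u))
  let K : Ideal C' := Ideal.span (Set.range fun i => (κ i : C'))
  have hKJ : K ≤ RingHom.ker p.toAlgHom := Ideal.span_le.2 (by rintro _ ⟨i, rfl⟩; exact (κ i).2)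
  have hKm : K ≤ maximalIdeal C' := hKJ.trans (ArtFunLib.ker_le_maximalIdeal p)
  have hq := isSemismallExt_quot hp hKm hKJ
  refine ⟨κ, K, hKm, hKJ, le_rfl, (T.obs_eq_zero_iff _ hq u).1 ?_⟩
  rw [T.obs_quot p hp K hKm hKJ hq u, show T.obs p hp u = ∑ j, bW j ⊗ₜ[k] κ j from eq_sum_coord bW _, map_sum]
  refine Finset.sum_eq_zero fun j _ => ?_
  rw [LinearMap.lTensor_tmul]
  have hz : (Art.kerToQuot hKm p hKJ).restrictScalars k (κ j) = 0 := by
    refine Subtype.ext ?_
    show Ideal.Quotient.mk K (κ j).1 = 0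
    rw [Ideal.Quotient.eq_zero_iff_mem]
    exact Ideal.subset_span ⟨j, rfl⟩
  rw [hz, tmul_zero]

/-- The relations of a minimal presentation are generated by as many elements as the obstruction space needs. -/
theorem exists_generators_of_lifts {P : Type u} [CommRing P] [IsLocalRing P] [IsNoetherianRing P] [Algebra k P]
    {R : Type u} [CommRing R] [Algebra k R] (res : R →ₐ[k] k) (π : P →ₐ[k] R)
    (hπ : Function.Surjective π) (hJ : RingHom.ker π ≤ maximalIdeal P ^ 2)
    {d : ℕ} (H : LiftsUpTo (hR R res) d) :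
    ∃ s : Finset P, Ideal.span (s : Set P) = RingHom.ker π ∧ s.card ≤ d := by
  classical
  let n := maximalIdeal P
  let J : Ideal P := RingHom.ker π
  have hJn : J ≤ n := hJ.trans (Ideal.pow_le_self two_ne_zero)
  obtain ⟨c, hc⟩ := Ideal.exists_pow_inf_eq_pow_smul n (J : Submodule P P)
  have hAR : n ^ (c + 1) ⊓ J ≤ n * J := by
    have h1 := hc (c + 1) (Nat.le_succ c)
    rw [smul_eq_mul, Ideal.mul_top, Nat.add_sub_cancel_left, pow_one] at h1
    rw [h1]
    exact Ideal.mul_mono le_rfl inf_le_right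
  let I1 : Ideal P := n * J ⊔ n ^ (c + 1)
  let I0 : Ideal P := J ⊔ n ^ (c + 1)
  have hpow : n ^ (c + 1) ≤ n := Ideal.pow_le_self (Nat.succ_ne_zero c)
  have hI1 : I1 ≤ n := sup_le Ideal.mul_le_left hpow
  have hI0 : I0 ≤ n := sup_le hJn hpow
  obtain ⟨C', π', hπ', hker', hres'⟩ := exists_obj (res.comp π) I1 hI1 (c + 1) le_sup_right
  obtain ⟨C, π0, hπ0, hker0, hres0⟩ := exists_obj (res.comp π) I0 hI0 (c + 1) le_sup_right
  have hle : RingHom.ker π' ≤ RingHom.ker π0 := by
    rw [hker', hker0]; exact sup_le_sup_right Ideal.mul_le_right _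
  let pa : C' →ₐ[k] C := AlgHom.liftOfSurjective π' hπ' π0 hle
  have hpa : ∀ b, pa (π' b) = π0 b := AlgHom.liftOfSurjective_apply π' hπ' π0 hle
  let p : C' ⟶ C := ⟨pa, AlgHom.ext fun x => by
    obtain ⟨b, rfl⟩ := hπ' x
    rw [AlgHom.comp_apply, hpa]
    exact (congr($hres0 b)).trans (congr($hres' b)).symm⟩
  have hp : ∀ b, p (π' b) = π0 b := hpa
  have hmax : ∀ b, π' b ∈ maximalIdeal C' → b ∈ n := fun b hb =>
    (res_eq_zero_iff (resB := res.comp π) b).1 ((congr($hres' b)).symm.trans ((Art.mem_maximalIdeal_iff C' _).1 hb))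
  have hkerp : ∀ b, π' b ∈ RingHom.ker p.toAlgHom ↔ b ∈ I0 := fun b => by
    rw [ArtFunLib.mem_ker_iff, hp, ← RingHom.mem_ker (f := π0), hker0]
  have hsemi : Art.IsSemismallExt p := by
    refine ⟨fun y => ?_, eq_bot_iff.2 (Ideal.mul_le.2 fun a ha b hb => ?_)⟩
    · obtain ⟨b, rfl⟩ := hπ0 y; exact ⟨π' b, hp b⟩
    · obtain ⟨a, rfl⟩ := hπ' a
      obtain ⟨b, rfl⟩ := hπ' b
      rw [Ideal.mem_bot, ← map_mul, ← RingHom.mem_ker (f := π'), hker']
      obtain ⟨j, hj, w, hw, rfl⟩ := Submodule.mem_sup.1 ((hkerp b).1 hb)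
      rw [mul_add]
      exact add_mem (Ideal.mem_sup_left (Ideal.mul_mem_mul (hmax a ha) hj))
        (Ideal.mem_sup_right (Ideal.mul_mem_left _ a hw))
  have hle0 : RingHom.ker π ≤ RingHom.ker π0 := by rw [hker0]; exact le_sup_left
  let ua := AlgHom.liftOfSurjective π hπ π0 hle0
  have hua : ∀ b, ua (π b) = π0 b := AlgHom.liftOfSurjective_apply π hπ π0 hle0
  let u : HomSet R res C := ⟨ua, AlgHom.ext fun r => by
    obtain ⟨b, rfl⟩ := hπ r
    rw [AlgHom.comp_apply, hua]
    exact congr($hres0 b)⟩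
  obtain ⟨κ, K, hKm, hKJ, hKκ, hlift⟩ := H p hsemi u
  have ha : ∀ j, ∃ a ∈ J, π' a = (κ j).1 := fun j => by
    obtain ⟨b, hb⟩ := hπ' (κ j).1
    obtain ⟨a, haJ, w, hw, rfl⟩ := Submodule.mem_sup.1 ((hkerp b).1 (hb ▸ (κ j).2))
    refine ⟨a, haJ, ?_⟩
    rw [← hb, map_add, RingHom.mem_ker.1 (hker' ▸ (Ideal.mem_sup_right hw : w ∈ I1) : w ∈ RingHom.ker π'), add_zero]
  choose a haJ ha using ha
  refine ⟨Finset.univ.image a, ?_, Finset.card_image_le.trans (by simp)⟩
  rw [Finset.coe_image, Finset.coe_univ, Set.image_univ]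
  have hsJ : Ideal.span (Set.range a) ≤ J := Ideal.span_le.2 (by rintro _ ⟨j, rfl⟩; exact haJ j)
  refine le_antisymm hsJ ?_
  have hq : Art.IsSemismallExt (Art.quotFactor hKm p hKJ) := by
    refine ⟨fun y => ?_, eq_bot_iff.2 (Ideal.mul_le.2 fun x hx y hy => ?_)⟩
    · obtain ⟨z, hz⟩ := hsemi.1 y; exact ⟨Art.quotMk C' K hKm z, hz⟩
    · obtain ⟨x, rfl⟩ := Art.quotMk_surjective C' K hKm x
      obtain ⟨y, rfl⟩ := Art.quotMk_surjective C' K hKm y
      have hxy : x * y = 0 := by
        rw [← Ideal.mem_bot, ← hsemi.2]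
        refine Ideal.mul_mem_mul ?_ hy
        rw [Art.mem_maximalIdeal_iff] at hx ⊢
        exact hx
      rw [Ideal.mem_bot]
      show Art.quotMk C' K hKm x * Art.quotMk C' K hKm y = 0
      exact ((map_mul (Art.quotMk C' K hKm).toAlgHom x y).symm.trans (congrArg _ hxy)).trans (map_zero _)
  obtain ⟨v, hv⟩ := hlift
  let v' : HomSet R res (Art.quot C' K hKm) := v
  let ψ : HomSet P (res.comp π) (Art.quot C' K hKm) := ⟨v'.1.comp π, by rw [← AlgHom.comp_assoc, v'.2]⟩
  let ψ0 : HomSet P (res.comp π) (Art.quot C' K hKm) :=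
    ⟨(Art.quotMk C' K hKm).toAlgHom.comp π', by
      rw [← AlgHom.comp_assoc, (Art.quotMk C' K hKm).res_comp, hres']⟩
  have hψ : ∀ b, Art.quotFactor hKm p hKJ (ψ.1 b) = Art.quotFactor hKm p hKJ (ψ0.1 b) := fun b => by
    refine (congr($(congrArg Subtype.val hv) (π b))).trans ?_
    show ua (π b) = p (π' b)
    rw [hua, hp]
  have hkey : J ≤ Ideal.span (Set.range a) ⊔ I1 := fun x hx => by
    have h1 := lifts_eq_on_sq hq ψ ψ0 hψ x (hJ hx)
    have h2 : ψ.1 x = 0 := (congrArg v'.1 (RingHom.mem_ker.1 hx)).trans (map_zero _)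
    have h3 : π' x ∈ K := Ideal.Quotient.eq_zero_iff_mem.1 (h1.symm.trans h2)
    have h3' : K ≤ (Ideal.span (Set.range a)).map π'.toRingHom := hKκ.trans (Ideal.span_le.2 (by
      rintro _ ⟨i, rfl⟩
      show (κ i : C') ∈ _
      rw [← ha i]
      exact Ideal.mem_map_of_mem _ (Ideal.subset_span ⟨i, rfl⟩)))
    obtain ⟨y, hy, hyx⟩ := (Ideal.mem_map_iff_of_surjective π'.toRingHom hπ').1 (h3' h3)
    have h4 : x - y ∈ I1 := by
      rw [← hker', RingHom.mem_ker, map_sub, sub_eq_zero]
      exact hyx.symm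
    rw [← add_sub_cancel y x]
    exact Submodule.add_mem_sup hy h4
  refine Submodule.le_of_le_smul_of_le_jacobson_bot J.fg_of_isNoetherianRing
    (IsLocalRing.maximalIdeal_le_jacobson _) fun x hx => ?_
  obtain ⟨y, hy, z, hz, rfl⟩ := Submodule.mem_sup.1 (hkey hx)
  obtain ⟨z1, hz1, w, hw, rfl⟩ := Submodule.mem_sup.1 hz
  have hwJ : w ∈ J := by
    have : w = (y + (z1 + w)) - y - z1 := by ring
    rw [this]
    exact sub_mem (sub_mem hx (hsJ hy)) (Ideal.mul_le_right hz1)
  exact Submodule.add_mem_sup hy (add_mem hz1 (hAR ⟨hw, hwJ⟩))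

theorem exists_generators {P : Type u} [CommRing P] [IsLocalRing P] [IsNoetherianRing P] [Algebra k P]
    {R : Type u} [CommRing R] [Algebra k R] (res : R →ₐ[k] k) (π : P →ₐ[k] R)
    (hπ : Function.Surjective π) (hJ : RingHom.ker π ≤ maximalIdeal P ^ 2)
    {W : Type u} [AddCommGroup W] [Module k W] [Module.Finite k W] (T : ObsTheory (hR R res) W) :
    ∃ s : Finset P, Ideal.span (s : Set P) = RingHom.ker π ∧ s.card ≤ Module.finrank k W :=
  exists_generators_of_lifts res π hπ hJ (liftsUpTo_of_obsTheory T)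

/-- A minimal presentation by a regular ring gives the bounds. -/
theorem bounds_of_lifts {P : Type u} [CommRing P] [IsRegularLocalRing P] [Algebra k P]
    {R : Type u} [CommRing R] [IsLocalRing R] [Algebra k R] (res : R →ₐ[k] k) (π : P →ₐ[k] R)
    (hπ : Function.Surjective π) (hJ : RingHom.ker π ≤ maximalIdeal P ^ 2)
    {d : ℕ} (H : LiftsUpTo (hR R res) d) :
    ringKrullDim R ≤ (Module.finrank (ResidueField R) (CotangentSpace R) : WithBot ℕ∞) ∧
      (Module.finrank (ResidueField R) (CotangentSpace R) : WithBot ℕ∞) ≤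
          ringKrullDim R + (d : WithBot ℕ∞) ∧
      (d = 0 → IsRegularLocalRing R) ∧
      (ringKrullDim R + (d : WithBot ℕ∞) =
          (Module.finrank (ResidueField R) (CotangentSpace R) : WithBot ℕ∞) →
        ∃ (P : Type u) (_ : CommRing P) (_ : IsRegularLocalRing P) (π : P →+* R) (s : Finset P),
          Function.Surjective π ∧ Ideal.span (s : Set P) = RingHom.ker π ∧
            ringKrullDim P = ringKrullDim R + (s.card : WithBot ℕ∞)) := by
  classical
  haveI : IsNoetherianRing R := isNoetherianRing_of_surjective P R π.toRingHom hπ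
  obtain ⟨s, hs, hcard⟩ := exists_generators_of_lifts res π hπ hJ H
  have hrank : (maximalIdeal P).spanFinrank = (maximalIdeal R).spanFinrank := by
    have hmap : (maximalIdeal P).map π.toRingHom = maximalIdeal R :=
      IsLocalRing.map_maximalIdeal_of_surjective _ hπ
    refine le_antisymm ?_ (hmap ▸ Ideal.spanFinrank_map_le_of_fg _ (maximalIdeal P).fg_of_isNoetherianRing)
    have hfg := (maximalIdeal R).fg_of_isNoetherianRing
    have hfin := Submodule.FG.finite_generators hfg
    choose z hz hzy using fun y : (maximalIdeal R).generators =>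
      (Ideal.mem_map_iff_of_surjective π.toRingHom hπ).1 (show y.1 ∈ (maximalIdeal P).map π.toRingHom by
        rw [hmap]; exact (maximalIdeal R).span_generators.le (Submodule.subset_span y.2))
    have hG : Ideal.span (Set.range z) = maximalIdeal P := by
      have hle : Ideal.span (Set.range z) ≤ maximalIdeal P := Ideal.span_le.2 (Set.range_subset_iff.2 hz)
      refine le_antisymm hle (Submodule.le_of_le_smul_of_le_jacobson_bot (maximalIdeal P).fg_of_isNoetherianRing
        (IsLocalRing.maximalIdeal_le_jacobson _) fun a ha => ?_)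
      have h2 : π.toRingHom a ∈ (Ideal.span (Set.range z)).map π.toRingHom := by
        rw [Ideal.map_span]
        have h3 : π.toRingHom a ∈ Ideal.span (maximalIdeal R).generators := by
          rw [Ideal.span, (maximalIdeal R).span_generators, ← hmap]
          exact Ideal.mem_map_of_mem _ ha
        exact Ideal.span_mono (fun y hy => (Set.mem_image _ _ _).2 ⟨z ⟨y, hy⟩, Set.mem_range_self _, hzy _⟩) h3
      obtain ⟨b, hb, hab⟩ := (Ideal.mem_map_iff_of_surjective π.toRingHom hπ).1 h2
      rw [← add_sub_cancel b a, smul_eq_mul, ← pow_two]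
      exact Submodule.add_mem_sup hb (hJ (by rw [RingHom.mem_ker, map_sub, sub_eq_zero]; exact hab.symm))
    have := hfin.to_subtype
    calc (maximalIdeal P).spanFinrank = (Submodule.span P (Set.range z)).spanFinrank := by rw [← hG]
      _ ≤ (Set.range z).ncard := Submodule.spanFinrank_span_le_ncard_of_finite (Set.finite_range z)
      _ = Nat.card (Set.range z) := (Nat.card_coe_set_eq _).symm
      _ ≤ Nat.card (maximalIdeal R).generators := Finite.card_range_le _
      _ = (maximalIdeal R).spanFinrank := by rw [Nat.card_coe_set_eq, Submodule.FG.generators_ncard hfg]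
  have hdimP : ringKrullDim P = (Module.finrank (ResidueField R) (CotangentSpace R) : WithBot ℕ∞) := by
    rw [← (isRegularLocalRing_iff P).1 ‹_›, hrank,
      IsLocalRing.spanFinrank_maximalIdeal_eq_finrank_cotangentSpace]
  let e : (P ⧸ Ideal.span (s : Set P)) ≃+* R :=
    (Ideal.quotEquivOfEq hs).trans (RingHom.quotientKerEquivOfSurjective hπ)
  have hdim : (Module.finrank (ResidueField R) (CotangentSpace R) : WithBot ℕ∞) ≤
      ringKrullDim R + (s.card : WithBot ℕ∞) := by
    rw [← hdimP, ← ringKrullDim_eq_of_ringEquiv e]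
    refine ringKrullDim_le_ringKrullDim_quotient_add_card s fun x hx => ?_
    rw [IsLocalRing.ringJacobson_eq_maximalIdeal]
    exact Ideal.pow_le_self two_ne_zero (hJ (hs ▸ Ideal.subset_span hx))
  have hle : ringKrullDim R + (s.card : WithBot ℕ∞) ≤ ringKrullDim R + (d : WithBot ℕ∞) := by
    gcongr
  refine ⟨(ringKrullDim_le_of_surjective π.toRingHom hπ).trans hdimP.le, hdim.trans hle, fun h0 => ?_, fun heq => ?_⟩
  · have : s = ∅ := Finset.card_eq_zero.1 (Nat.le_zero.1 (h0 ▸ hcard))
    subst this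
    exact IsRegularLocalRing.of_ringEquiv ((RingEquiv.ofBijective π.toRingHom
      ⟨(RingHom.injective_iff_ker_eq_bot _).2 (hs.symm.trans (by simp)), hπ⟩))
  · exact ⟨P, inferInstance, inferInstance, π.toRingHom, s, hπ, hs,
      hdimP.trans (le_antisymm hdim (hle.trans heq.le))⟩

/-- The bounds from an obstruction theory. -/
theorem bounds {P : Type u} [CommRing P] [IsRegularLocalRing P] [Algebra k P]
    {R : Type u} [CommRing R] [IsLocalRing R] [Algebra k R] (res : R →ₐ[k] k) (π : P →ₐ[k] R)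
    (hπ : Function.Surjective π) (hJ : RingHom.ker π ≤ maximalIdeal P ^ 2)
    {W : Type u} [AddCommGroup W] [Module k W] [Module.Finite k W] (T : ObsTheory (hR R res) W) :
    ringKrullDim R ≤ (Module.finrank (ResidueField R) (CotangentSpace R) : WithBot ℕ∞) ∧
      (Module.finrank (ResidueField R) (CotangentSpace R) : WithBot ℕ∞) ≤
          ringKrullDim R + (Module.finrank k W : WithBot ℕ∞) ∧
      (Module.finrank k W = 0 → IsRegularLocalRing R) ∧
      (ringKrullDim R + (Module.finrank k W : WithBot ℕ∞) =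
          (Module.finrank (ResidueField R) (CotangentSpace R) : WithBot ℕ∞) →
        ∃ (P : Type u) (_ : CommRing P) (_ : IsRegularLocalRing P) (π : P →+* R) (s : Finset P),
          Function.Surjective π ∧ Ideal.span (s : Set P) = RingHom.ker π ∧
            ringKrullDim P = ringKrullDim R + (s.card : WithBot ℕ∞)) :=
  bounds_of_lifts res π hπ hJ (liftsUpTo_of_obsTheory T)

/-- Reduction to a minimal presentation. -/
theorem exists_minimal_aux : ∀ (n : ℕ) (S : Type u) [CommRing S] [IsRegularLocalRing S] [Algebra k S]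
    (R : Type u) [CommRing R] [IsLocalRing R] [Algebra k R] (π : S →ₐ[k] R), Function.Surjective π →
    (maximalIdeal S).spanFinrank ≤ n →
    ∃ (P : Type u) (_ : CommRing P) (_ : IsRegularLocalRing P) (_ : Algebra k P) (π : P →ₐ[k] R),
      Function.Surjective π ∧ RingHom.ker π ≤ maximalIdeal P ^ 2 := by
  intro n
  induction n with
  | zero =>
    intro S _ _ _ R _ _ _ π hπ hn
    refine ⟨S, inferInstance, inferInstance, inferInstance, π, hπ, fun x hx => ?_⟩
    by_cases h : x = 0
    · rw [h]; exact zero_mem _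
    · obtain ⟨y, hy⟩ := (RegLoc6.isField_of_spanFinrank_eq_zero (R := S) (Nat.le_zero.1 hn)).mul_inv_cancel h
      have h1 := congrArg π hy
      rw [map_mul, show π x = 0 from hx, zero_mul, map_one] at h1
      exact absurd h1 zero_ne_one
  | succ n ih =>
    intro S _ _ _ R _ _ _ π hπ hn
    by_cases hle : RingHom.ker π ≤ maximalIdeal S ^ 2
    · exact ⟨S, inferInstance, inferInstance, inferInstance, π, hπ, hle⟩
    obtain ⟨x, hxker, hx2⟩ := SetLike.not_le_iff_exists.1 hle
    have hxm : x ∈ maximalIdeal S := IsLocalRing.le_maximalIdeal (RingHom.ker_ne_top _) hxker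
    haveI := RegLoc6.isLocalRing_quot hxm
    haveI := (RegLoc6.isRegularLocalRing_quot_and hxm hx2).1
    refine ih (S ⧸ Ideal.span {x}) R (Ideal.Quotient.liftₐ _ π fun a ha => ?_)
      (fun r => ?_) (by have := RegLoc6.spanFinrank_quot_le hxm hx2; omega)
    · obtain ⟨b, rfl⟩ := Ideal.mem_span_singleton.1 ha
      rw [map_mul, show π x = 0 from hxker, zero_mul]
    · obtain ⟨a, rfl⟩ := hπ r
      exact ⟨Ideal.Quotient.mk _ a, rfl⟩

/-- A local algebra essentially of finite type over a field has a minimal regular presentation. -/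
theorem exists_minimal_essFin (R : Type u) [CommRing R] [IsLocalRing R] [Algebra k R]
    [Algebra.EssFiniteType k R] :
    ∃ (P : Type u) (_ : CommRing P) (_ : IsRegularLocalRing P) (_ : Algebra k P) (π : P →ₐ[k] R),
      Function.Surjective π ∧ RingHom.ker π ≤ maximalIdeal P ^ 2 := by
  classical
  obtain ⟨σ, hσ⟩ := (Algebra.essFiniteType_iff k R).mp ‹_›
  let g : MvPolynomial σ k →ₐ[k] R := MvPolynomial.aeval (fun i => (i : R))
  have hrange : ∀ t ∈ Algebra.adjoin k (σ : Set R), t ∈ g.range := by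
    refine fun t ht => Algebra.adjoin_le (fun x hx => ?_) ht
    exact ⟨MvPolynomial.X ⟨x, hx⟩, by simp [g]⟩
  let Q := (maximalIdeal R).comap g.toRingHom
  haveI : Q.IsPrime := Ideal.comap_isPrime _ _
  have hu : ∀ y : Q.primeCompl, IsUnit (g y) := fun y => notMem_maximalIdeal.mp y.2
  haveI := IsRegularRing.isRegularLocalRing_localization (R := MvPolynomial σ k) Q
  refine exists_minimal_aux _ (Localization.AtPrime Q) R (IsLocalization.liftAlgHom (f := g) hu) (fun b => ?_) le_rfl
  obtain ⟨t, ht, htu, hbt⟩ := hσ b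
  obtain ⟨y, hy⟩ := hrange t ht
  obtain ⟨x, hx⟩ := hrange _ hbt
  have hyP : y ∈ Q.primeCompl := fun h => notMem_maximalIdeal.mpr htu ((hy : g y = t) ▸ h)
  refine ⟨IsLocalization.mk' _ x ⟨y, hyP⟩, ?_⟩
  show IsLocalization.lift hu _ = b
  rw [IsLocalization.lift_mk'_spec]
  show g x = g y * b
  exact (hx.trans (mul_comm b t)).trans (congrArg (· * b) hy).symm

end Groth.Agent.ArtFunLib.ObsBound
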