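import Groth.Agent.ArtFunLib.Hull.Mor
import Groth.Prelude.Def_ArtFun5
import Groth.Agent.ArtFunLib.Hull.Ring
import Mathlib.RingTheory.AdicCompletion.RingHom
import Mathlib.RingTheory.AdicCompletion.Functoriality
import Mathlib.RingTheory.Polynomial.Basic

/-!
# Completions at an augmentation, quotients, presentations and coproducts in `CRing Λ k`
-/

set_option autoImplicit false

universe u v

open CategoryTheory ArtFun IsLocalRing

namespace Groth.Agent.ArtFunLib.Completion

variable {Λ : Type u} {k : Type u} [CommRing Λ] [Field k] [Algebra Λ k]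

theorem map_maximalIdeal_le {R T : CRing Λ k} (g : R.carrier →ₐ[Λ] T.carrier) (hg : T.res.comp g = R.res) :
    (maximalIdeal R.carrier).map g.toRingHom ≤ maximalIdeal T.carrier :=
  Ideal.map_le_iff_le_comap.2 fun x hx => by
    rw [Ideal.mem_comap, CRing.mem_maximalIdeal_iff]
    exact (congr($hg x)).trans ((CRing.mem_maximalIdeal_iff R x).1 hx)

/-- The completion of a Noetherian augmented algebra at its augmentation, with its universal property. -/
theorem exists_completion'' {S : Type u} [CommRing S] [Algebra Λ S] [IsNoetherianRing S]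
    (res : S →ₐ[Λ] k) (hres : Function.Surjective res) :
    ∃ (R : CRing Λ k) (ι : S →ₐ[Λ] R.carrier), R.res.comp ι = res ∧
      Nonempty (R.carrier ≃+* AdicCompletion (RingHom.ker res) S) ∧
      (∀ n (x : R.carrier), ∃ s : S, x - ι s ∈ maximalIdeal R.carrier ^ n) ∧
      (∀ n (s : S), ι s ∈ maximalIdeal R.carrier ^ n → s ∈ RingHom.ker res ^ n) ∧
      (∀ (T : CRing Λ k) (g : S →ₐ[Λ] T.carrier), T.res.comp g = res →
        ∃ h : R.carrier →ₐ[Λ] T.carrier, T.res.comp h = R.res ∧ h.comp ι = g) ∧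
      ∀ (T : CRing Λ k) (h₁ h₂ : R.carrier →ₐ[Λ] T.carrier),
        T.res.comp h₁ = R.res → T.res.comp h₂ = R.res → h₁.comp ι = h₂.comp ι → h₁ = h₂ := by
  set M := RingHom.ker res
  have hMmax : M.IsMaximal := Hull.ker_isMaximal res hres
  have hfg : M.FG := IsNoetherian.noetherian M
  let B := AdicCompletion M S
  let m : Ideal B := M.map (algebraMap S B)
  have hm : m.IsMaximal := AdicCompletion.isMaximal_map_of_le M M le_rfl hfg
  have hc : IsAdicComplete m B := AdicCompletion.isAdicComplete_self M hfg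
  have : IsLocalRing B := isLocalRing_of_isAdicComplete_maximal m
  have hN : IsNoetherianRing B := by
    let := Ideal.Quotient.field m
    exact LocalCrit.isNoetherianRing_of_isAdicComplete m (hfg.map _)
  have hmB : m = maximalIdeal B := IsLocalRing.eq_maximalIdeal hm
  let resB : B →ₐ[Λ] k :=
    (Ideal.Quotient.liftₐ (M ^ 1) res fun a ha => RingHom.mem_ker.1 (Ideal.pow_le_self one_ne_zero ha)).comp
      ((AdicCompletion.evalₐ M 1).restrictScalars Λ)
  have hresB : ∀ s, resB (algebraMap S B s) = res s := fun s => by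
    show Ideal.Quotient.liftₐ (M ^ 1) res (fun a ha => RingHom.mem_ker.1 (Ideal.pow_le_self one_ne_zero ha)) (AdicCompletion.evalₐ M 1 (algebraMap S B s)) = res s
    rw [AlgHom.commutes]
    rfl
  let R : CRing Λ k :=
    { carrier := B
      res := resB
      res_surjective := fun c => (hres c).elim fun s hs => ⟨algebraMap S B s, (hresB s).trans hs⟩
      isAdicComplete := hmB ▸ hc }
  let ι : S →ₐ[Λ] R.carrier := IsScalarTower.toAlgHom Λ S B
  refine ⟨R, ι, AlgHom.ext hresB, ⟨RingEquiv.refl _⟩, fun n x => ?_, fun n s hs => ?_, fun T g hg => ?_, fun T h₁ h₂ e₁ e₂ e => ?_⟩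
  · obtain ⟨s, hs⟩ := Hull.exists_approx M hfg n x
    exact ⟨s, hmB ▸ hs⟩
  · have h1 : algebraMap S B s ∈ m ^ n := hmB.symm ▸ hs
    have h2 := (Hull.mem_map_pow_iff M hfg n _).1 h1
    rw [AlgHom.commutes, Ideal.Quotient.algebraMap_eq] at h2
    exact Ideal.Quotient.eq_zero_iff_mem.1 h2
  · haveI := T.isAdicComplete
    have hgM : ∀ n, M ^ n ≤ (maximalIdeal T.carrier ^ n).comap g.toRingHom := fun n => by
      rw [← Ideal.map_le_iff_le_comap, Ideal.map_pow]
      refine Ideal.pow_right_mono (Ideal.map_le_iff_le_comap.2 fun s hs => ?_) _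
      rw [Ideal.mem_comap, CRing.mem_maximalIdeal_iff]
      exact (congr($hg s)).trans (RingHom.mem_ker.1 hs)
    let f : ∀ n, B →ₐ[Λ] T.carrier ⧸ maximalIdeal T.carrier ^ n := fun n =>
      (Ideal.Quotient.liftₐ (M ^ n) ((Ideal.Quotient.mkₐ Λ _).comp g) fun a ha =>
        Ideal.Quotient.eq_zero_iff_mem.2 (hgM n ha)).comp ((AdicCompletion.evalₐ M n).restrictScalars Λ)
    have hfeq : ∀ n x s, x - algebraMap S B s ∈ m ^ n → f n x = Ideal.Quotient.mk _ (g s) := by
      intro n x s hs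
      have e : AdicCompletion.evalₐ M n x = Ideal.Quotient.mk _ s := by
        have := (Hull.mem_map_pow_iff M hfg n _).1 hs
        rwa [map_sub, AlgHom.commutes, Ideal.Quotient.algebraMap_eq, sub_eq_zero] at this
      show Ideal.Quotient.liftₐ (M ^ n) ((Ideal.Quotient.mkₐ Λ _).comp g) (fun a ha =>
        Ideal.Quotient.eq_zero_iff_mem.2 (hgM n ha)) (AdicCompletion.evalₐ M n x) = _
      rw [e]
      rfl
    have hf : ∀ {p q : ℕ} (h : p ≤ q),
        (Ideal.Quotient.factorₐ Λ (Ideal.pow_le_pow_right h)).comp (f q) = f p := fun {p q} h => by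
      refine AlgHom.ext fun x => ?_
      obtain ⟨s, hs⟩ := Hull.exists_approx M hfg q x
      rw [AlgHom.comp_apply, hfeq q x s hs, hfeq p x s (Ideal.pow_le_pow_right h hs)]
      rfl
    let h : B →ₐ[Λ] T.carrier := IsAdicComplete.liftAlgHom (maximalIdeal T.carrier) f hf
    have hι : ∀ s, h (algebraMap S B s) = g s := fun s => by
      refine eq_of_sub_eq_zero (IsHausdorff.haus (I := maximalIdeal T.carrier) inferInstance _ fun n => ?_)
      rw [SModEq.sub_mem, sub_zero, Ideal.smul_eq_mul, Ideal.mul_top, ← Ideal.Quotient.eq,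
        show Ideal.Quotient.mk (maximalIdeal T.carrier ^ n) (h (algebraMap S B s)) = f n (algebraMap S B s) from
          IsAdicComplete.mk_liftAlgHom _ f hf n _]
      exact hfeq n _ s (by rw [sub_self]; exact zero_mem _)
    refine ⟨h, AlgHom.ext fun x => ?_, AlgHom.ext hι⟩
    obtain ⟨s, hs⟩ := Hull.exists_approx M hfg 1 x
    have h1 : h x - g s ∈ maximalIdeal T.carrier := by
      rw [← pow_one (maximalIdeal T.carrier), ← Ideal.Quotient.eq]
      exact (IsAdicComplete.mk_liftAlgHom _ f hf 1 x).trans (hfeq 1 x s hs)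
    have h2 : x - algebraMap S B s ∈ maximalIdeal R.carrier := hmB ▸ (pow_one m ▸ hs)
    rw [CRing.mem_maximalIdeal_iff, map_sub, sub_eq_zero] at h1 h2
    show T.res (h x) = R.res x
    rw [h1, h2]
    exact (congr($hg s)).trans (hresB s).symm
  · haveI := T.isAdicComplete
    refine AlgHom.ext fun x => eq_of_sub_eq_zero
      (IsHausdorff.haus (I := maximalIdeal T.carrier) inferInstance _ fun n => ?_)
    rw [SModEq.sub_mem, sub_zero, Ideal.smul_eq_mul, Ideal.mul_top]
    obtain ⟨s, hs⟩ := Hull.exists_approx M hfg n x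
    have key : ∀ (h : R.carrier →ₐ[Λ] T.carrier), T.res.comp h = R.res →
        h x - h (ι s) ∈ maximalIdeal T.carrier ^ n := fun h hh => by
      rw [← map_sub]
      have h3 : x - ι s ∈ maximalIdeal R.carrier ^ n := hmB ▸ hs
      have := Ideal.mem_map_of_mem h.toRingHom h3
      rw [Ideal.map_pow] at this
      exact Ideal.pow_right_mono (map_maximalIdeal_le h hh) n this
    have := sub_mem (key h₁ e₁) (key h₂ e₂)
    rwa [show h₁ (ι s) = h₂ (ι s) from congr($e s), sub_sub_sub_cancel_right] at this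

/-- The completion of a Noetherian augmented algebra at its augmentation, with its universal property. -/
theorem exists_completion' {S : Type u} [CommRing S] [Algebra Λ S] [IsNoetherianRing S]
    (res : S →ₐ[Λ] k) (hres : Function.Surjective res) :
    ∃ (R : CRing Λ k) (ι : S →ₐ[Λ] R.carrier), R.res.comp ι = res ∧
      (∀ n (x : R.carrier), ∃ s : S, x - ι s ∈ maximalIdeal R.carrier ^ n) ∧
      (∀ n (s : S), ι s ∈ maximalIdeal R.carrier ^ n → s ∈ RingHom.ker res ^ n) ∧
      (∀ (T : CRing Λ k) (g : S →ₐ[Λ] T.carrier), T.res.comp g = res →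
        ∃ h : R.carrier →ₐ[Λ] T.carrier, T.res.comp h = R.res ∧ h.comp ι = g) ∧
      ∀ (T : CRing Λ k) (h₁ h₂ : R.carrier →ₐ[Λ] T.carrier),
        T.res.comp h₁ = R.res → T.res.comp h₂ = R.res → h₁.comp ι = h₂.comp ι → h₁ = h₂ := by
  obtain ⟨R, ι, h, -, h'⟩ := exists_completion'' res hres
  exact ⟨R, ι, h, h'⟩

/-- The completion of a Noetherian augmented algebra at its augmentation, with its universal property. -/
theorem exists_completion {S : Type u} [CommRing S] [Algebra Λ S] [IsNoetherianRing S]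
    (res : S →ₐ[Λ] k) (hres : Function.Surjective res) :
    ∃ (R : CRing Λ k) (ι : S →ₐ[Λ] R.carrier), R.res.comp ι = res ∧
      (∀ (T : CRing Λ k) (g : S →ₐ[Λ] T.carrier), T.res.comp g = res →
        ∃ h : R.carrier →ₐ[Λ] T.carrier, T.res.comp h = R.res ∧ h.comp ι = g) ∧
      ∀ (T : CRing Λ k) (h₁ h₂ : R.carrier →ₐ[Λ] T.carrier),
        T.res.comp h₁ = R.res → T.res.comp h₂ = R.res → h₁.comp ι = h₂.comp ι → h₁ = h₂ := by
  obtain ⟨R, ι, h, -, -, hex, hu⟩ := exists_completion' res hres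
  exact ⟨R, ι, h, hex, hu⟩

/-- Quotients of coefficient rings. -/
theorem exists_quotient (R : CRing Λ k) (I : Ideal R.carrier) (hI : I ≤ maximalIdeal R.carrier) :
    ∃ (Q : CRing Λ k) (q : R.carrier →ₐ[Λ] Q.carrier), Q.res.comp q = R.res ∧ Function.Surjective q ∧
      RingHom.ker q = I ∧
      ∀ (T : CRing Λ k) (g : R.carrier →ₐ[Λ] T.carrier), T.res.comp g = R.res → I ≤ RingHom.ker g →
        ∃ h : Q.carrier →ₐ[Λ] T.carrier, T.res.comp h = Q.res ∧ h.comp q = g := by
  haveI := R.isAdicComplete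
  haveI : Nontrivial (R.carrier ⧸ I) := Ideal.Quotient.nontrivial_iff.2 fun e =>
    (IsLocalRing.maximalIdeal.isMaximal R.carrier).ne_top (top_le_iff.1 (e ▸ hI))
  haveI : IsLocalRing (R.carrier ⧸ I) :=
    IsLocalRing.of_surjective' (Ideal.Quotient.mk I) Ideal.Quotient.mk_surjective
  haveI : IsNoetherianRing (R.carrier ⧸ I) :=
    isNoetherianRing_of_surjective R.carrier _ (Ideal.Quotient.mk I) Ideal.Quotient.mk_surjective
  have hmax : maximalIdeal (R.carrier ⧸ I) = (maximalIdeal R.carrier).map (algebraMap R.carrier (R.carrier ⧸ I)) :=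
    (IsLocalRing.eq_maximalIdeal (Ideal.IsMaximal.map_of_surjective_of_ker_le Ideal.Quotient.mk_surjective
      (by rw [Ideal.mk_ker]; exact hI))).symm
  have hres : ∀ a ∈ I, R.res a = 0 := fun a ha => (CRing.mem_maximalIdeal_iff R a).1 (hI ha)
  let Q : CRing Λ k :=
    { carrier := R.carrier ⧸ I
      res := Ideal.Quotient.liftₐ I R.res hres
      res_surjective := fun c => (R.res_surjective c).elim fun a ha => ⟨Ideal.Quotient.mk I a, ha⟩
      isAdicComplete := by
        rw [hmax, IsAdicComplete.map_algebraMap_iff]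
        exact AdicLib.isAdicComplete_of_finite (maximalIdeal R.carrier) (R.carrier ⧸ I) }
  let q : R.carrier →ₐ[Λ] Q.carrier := Ideal.Quotient.mkₐ Λ I
  refine ⟨Q, q, AlgHom.ext fun _ => rfl, Ideal.Quotient.mk_surjective, Ideal.mk_ker, fun T g hg hgI => ?_⟩
  refine ⟨Ideal.Quotient.liftₐ I g fun a ha => hgI ha, AlgHom.ext fun x => ?_, AlgHom.ext fun _ => rfl⟩
  obtain ⟨a, rfl⟩ := Ideal.Quotient.mk_surjective x
  exact congr($hg a)

/-- Generators: a polynomial algebra whose completion maps onto `T`. -/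
theorem exists_presentation [Module.Finite Λ k] (T : CRing Λ k) :
    ∃ (n : ℕ) (g : MvPolynomial (Fin n) Λ →ₐ[Λ] T.carrier), Function.Surjective (T.res.comp g) ∧
      ∀ (B : CRing Λ k) (ι : MvPolynomial (Fin n) Λ →ₐ[Λ] B.carrier) (h : B.carrier →ₐ[Λ] T.carrier),
        T.res.comp h = B.res → h.comp ι = g → Function.Surjective h := by
  classical
  obtain ⟨a, ha⟩ := (IsNoetherian.noetherian (maximalIdeal T.carrier) : (maximalIdeal T.carrier).FG)
  obtain ⟨b, hb⟩ := (Module.Finite.fg_top : (⊤ : Submodule Λ k).FG)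
  choose l hl using T.res_surjective
  let e := (Fintype.equivFin (↥a ⊕ ↥b)).symm
  let w : Fin (Fintype.card (↥a ⊕ ↥b)) → T.carrier := fun i => Sum.elim (fun x => x.1) (fun y => l y.1) (e i)
  let g : MvPolynomial (Fin (Fintype.card (↥a ⊕ ↥b))) Λ →ₐ[Λ] T.carrier := MvPolynomial.aeval w
  have hg : ∀ x : ↥a ⊕ ↥b, ∃ P, g P = Sum.elim (fun x => x.1) (fun y => l y.1) x := fun x =>
    ⟨MvPolynomial.X (e.symm x), by simp [g, w]⟩
  have hsurj : Function.Surjective (T.res.comp g) := fun c => by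
    have hc : c ∈ LinearMap.range (T.res.comp g).toLinearMap := by
      refine (Submodule.span_le.2 fun y hy => ?_) (hb.ge (Submodule.mem_top (x := c)))
      obtain ⟨P, hP⟩ := hg (Sum.inr ⟨y, hy⟩)
      exact ⟨P, by show T.res (g P) = y; rw [hP]; exact hl y⟩
    exact hc
  refine ⟨_, g, hsurj, fun B ι h hh hι => ?_⟩
  have hm : (maximalIdeal B.carrier).map h.toRingHom = maximalIdeal T.carrier := by
    refine le_antisymm (map_maximalIdeal_le h hh) (ha.symm.le.trans (Ideal.span_le.2 fun x hx => ?_))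
    obtain ⟨P, hP⟩ := hg (Sum.inl ⟨x, hx⟩)
    have hx' : x ∈ maximalIdeal T.carrier := ha ▸ Submodule.subset_span hx
    have e1 : h (ι P) = x := (congr($hι P)).trans hP
    rw [← e1]
    refine Ideal.mem_map_of_mem h.toRingHom ?_
    rw [CRing.mem_maximalIdeal_iff] at hx' ⊢
    rw [← hh]
    show T.res (h (ι P)) = 0
    rw [e1]
    exact hx'
  haveI := B.isAdicComplete
  haveI := T.isAdicComplete
  haveI : IsHausdorff ((maximalIdeal B.carrier).map h.toRingHom) T.carrier :=
    hm.symm ▸ (inferInstance : IsHausdorff (maximalIdeal T.carrier) T.carrier)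
  refine surjective_of_mk_map_comp_surjective (I := maximalIdeal B.carrier) (f := h.toRingHom) fun z => ?_
  obtain ⟨x, rfl⟩ := Ideal.Quotient.mk_surjective z
  obtain ⟨P, hP⟩ := hsurj (T.res x)
  refine ⟨ι P, Ideal.Quotient.eq.2 ?_⟩
  rw [hm, CRing.mem_maximalIdeal_iff, map_sub, sub_eq_zero]
  refine Eq.trans ?_ hP
  exact congrArg T.res (congr($hι P))

/-- The completion of a polynomial algebra pro-represents a smooth functor. -/
theorem isSmoothFunctor_hR {σ : Type u} (B : CRing Λ k) (ι : MvPolynomial σ Λ →ₐ[Λ] B.carrier)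
    (hι : ∀ (T : CRing Λ k) (g : MvPolynomial σ Λ →ₐ[Λ] T.carrier), T.res.comp g = B.res.comp ι →
      ∃ h : B.carrier →ₐ[Λ] T.carrier, T.res.comp h = B.res ∧ h.comp ι = g)
    (hι' : ∀ (T : CRing Λ k) (h₁ h₂ : B.carrier →ₐ[Λ] T.carrier),
      T.res.comp h₁ = B.res → T.res.comp h₂ = B.res → h₁.comp ι = h₂.comp ι → h₁ = h₂) :
    IsSmoothFunctor (hR B.carrier B.res) := by
  intro B' A μ hμ φ
  have hc : ∀ C : Art Λ k, IsAdicComplete (maximalIdeal C) C := fun C => by
    obtain ⟨N, hN⟩ := (isArtinianRing_iff_isNilpotent_maximalIdeal C).1 inferInstance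
    have hz : maximalIdeal C ^ N • (⊤ : Submodule C C) = ⊥ := by
      rw [hN, Submodule.zero_eq_bot, Submodule.bot_smul]
    refine { haus' := fun x hx => ?_, prec' := fun f hf => ⟨f N, fun n => ?_⟩ }
    · have := hx N
      rwa [hz, SModEq.bot] at this
    · rcases le_total n N with h | h
      · exact hf h
      · have := hf h
        rw [hz, SModEq.bot] at this
        rw [this]
  let tc : Art Λ k → CRing Λ k := fun C =>
    { carrier := C, res := C.res, res_surjective := C.res_surjective, isAdicComplete := hc C }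
  let φ' : HomSet B.carrier B.res A := φ
  choose w hw using fun i => hμ (φ'.1 (ι (MvPolynomial.X i)))
  have e : (μ.toAlgHom.comp (MvPolynomial.aeval w)) = φ'.1.comp ι :=
    MvPolynomial.algHom_ext fun i => by simp [hw]
  obtain ⟨h, hh, hhι⟩ := hι (tc B') (MvPolynomial.aeval w) (by
    refine AlgHom.ext fun P => ?_
    show B'.res (MvPolynomial.aeval w P) = B.res (ι P)
    rw [← Art.res_app μ]
    exact (congrArg A.res (congr($e P))).trans (congr($(φ'.2) (ι P))))
  refine ⟨(⟨h, hh⟩ : HomSet B.carrier B.res B'), Subtype.ext ?_⟩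
  refine hι' (tc A) _ _ ?_ φ'.2 ?_
  · show A.res.comp (μ.toAlgHom.comp h) = B.res
    rw [← AlgHom.comp_assoc, μ.res_comp]
    exact hh
  · show (μ.toAlgHom.comp h).comp ι = φ'.1.comp ι
    rw [AlgHom.comp_assoc, hhι]
    exact e

/-- Coproducts exist. -/
theorem exists_coproduct [IsNoetherianRing Λ] [Module.Finite Λ k] (R S : CRing Λ k) :
    ∃ (P : CRing Λ k) (i₁ : R.carrier →ₐ[Λ] P.carrier) (i₂ : S.carrier →ₐ[Λ] P.carrier),
      P.res.comp i₁ = R.res ∧ P.res.comp i₂ = S.res ∧
      ∀ (T : CRing Λ k) (g₁ : R.carrier →ₐ[Λ] T.carrier) (g₂ : S.carrier →ₐ[Λ] T.carrier),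
        T.res.comp g₁ = R.res → T.res.comp g₂ = S.res →
          ∃! h : P.carrier →ₐ[Λ] T.carrier, T.res.comp h = P.res ∧ h.comp i₁ = g₁ ∧ h.comp i₂ = g₂ := by
  obtain ⟨a, ga, hga, hsa⟩ := exists_presentation R
  obtain ⟨b, gb, hgb, hsb⟩ := exists_presentation S
  obtain ⟨A, ιa, hιa, hAex, hAu⟩ := exists_completion (R.res.comp ga) hga
  obtain ⟨B, ιb, hιb, hBex, hBu⟩ := exists_completion (S.res.comp gb) hgb
  obtain ⟨pa, hpa, hpa'⟩ := hAex R ga rfl
  obtain ⟨pb, hpb, hpb'⟩ := hBex S gb rfl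
  have hpas := hsa A ιa pa hpa hpa'
  have hpbs := hsb B ιb pb hpb hpb'
  let ja : MvPolynomial (Fin a) Λ →ₐ[Λ] MvPolynomial (Fin a ⊕ Fin b) Λ := MvPolynomial.rename Sum.inl
  let jb : MvPolynomial (Fin b) Λ →ₐ[Λ] MvPolynomial (Fin a ⊕ Fin b) Λ := MvPolynomial.rename Sum.inr
  let r : MvPolynomial (Fin a ⊕ Fin b) Λ →ₐ[Λ] k := MvPolynomial.aeval
    (Sum.elim (fun i => R.res (ga (MvPolynomial.X i))) (fun i => S.res (gb (MvPolynomial.X i))))
  have hja : r.comp ja = R.res.comp ga := MvPolynomial.algHom_ext fun i => by simp [r, ja]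
  have hjb : r.comp jb = S.res.comp gb := MvPolynomial.algHom_ext fun i => by simp [r, jb]
  obtain ⟨C, ι, hι, hCex, hCu⟩ := exists_completion r fun c => (hga c).elim fun P hP =>
    ⟨ja P, (congr($hja P)).trans hP⟩
  obtain ⟨ca, hca, hca'⟩ := hAex C (ι.comp ja) (by rw [← AlgHom.comp_assoc, hι, hja])
  obtain ⟨cb, hcb, hcb'⟩ := hBex C (ι.comp jb) (by rw [← AlgHom.comp_assoc, hι, hjb])
  obtain ⟨P, q, hq, hqs, hqker, hQex⟩ := exists_quotient C
    ((RingHom.ker pa).map ca.toRingHom ⊔ (RingHom.ker pb).map cb.toRingHom)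
    (sup_le ((Ideal.map_mono fun x hx => (CRing.mem_maximalIdeal_iff A x).2
        ((congr($hpa x)).symm.trans ((congrArg R.res (RingHom.mem_ker.1 hx)).trans (map_zero _)))).trans (map_maximalIdeal_le ca hca))
      ((Ideal.map_mono fun x hx => (CRing.mem_maximalIdeal_iff B x).2
        ((congr($hpb x)).symm.trans ((congrArg S.res (RingHom.mem_ker.1 hx)).trans (map_zero _)))).trans (map_maximalIdeal_le cb hcb)))
  have hka : RingHom.ker pa ≤ RingHom.ker (q.comp ca) := fun x hx => by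
    rw [RingHom.mem_ker, AlgHom.comp_apply, ← RingHom.mem_ker, hqker]
    exact Ideal.mem_sup_left (Ideal.mem_map_of_mem ca.toRingHom hx)
  have hkb : RingHom.ker pb ≤ RingHom.ker (q.comp cb) := fun x hx => by
    rw [RingHom.mem_ker, AlgHom.comp_apply, ← RingHom.mem_ker, hqker]
    exact Ideal.mem_sup_right (Ideal.mem_map_of_mem cb.toRingHom hx)
  let i₁ : R.carrier →ₐ[Λ] P.carrier := AlgHom.liftOfSurjective pa hpas (q.comp ca) hka
  let i₂ : S.carrier →ₐ[Λ] P.carrier := AlgHom.liftOfSurjective pb hpbs (q.comp cb) hkb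
  have h₁ : i₁.comp pa = q.comp ca := AlgHom.ext (AlgHom.liftOfSurjective_apply pa hpas _ hka)
  have h₂ : i₂.comp pb = q.comp cb := AlgHom.ext (AlgHom.liftOfSurjective_apply pb hpbs _ hkb)
  refine ⟨P, i₁, i₂, (AlgHom.cancel_right hpas).1 ?_, (AlgHom.cancel_right hpbs).1 ?_, fun T g₁ g₂ e₁ e₂ => ?_⟩
  · rw [AlgHom.comp_assoc, h₁, ← AlgHom.comp_assoc, hq, hca, hpa]
  · rw [AlgHom.comp_assoc, h₂, ← AlgHom.comp_assoc, hq, hcb, hpb]
  let g : MvPolynomial (Fin a ⊕ Fin b) Λ →ₐ[Λ] T.carrier := MvPolynomial.aeval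
    (Sum.elim (fun i => g₁ (ga (MvPolynomial.X i))) (fun i => g₂ (gb (MvPolynomial.X i))))
  have hgja : g.comp ja = g₁.comp ga := MvPolynomial.algHom_ext fun i => by simp [g, ja]
  have hgjb : g.comp jb = g₂.comp gb := MvPolynomial.algHom_ext fun i => by simp [g, jb]
  obtain ⟨c, hc, hc'⟩ := hCex T g (MvPolynomial.algHom_ext fun i => by
    rcases i with i | i
    · simpa [g, r] using congr($e₁ (ga (MvPolynomial.X i)))
    · simpa [g, r] using congr($e₂ (gb (MvPolynomial.X i))))
  have hcca : c.comp ca = g₁.comp pa := hAu T _ _ (by rw [← AlgHom.comp_assoc, hc, hca])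
    (by rw [← AlgHom.comp_assoc, e₁, hpa])
    (by rw [AlgHom.comp_assoc, hca', ← AlgHom.comp_assoc, hc', hgja, AlgHom.comp_assoc, hpa'])
  have hccb : c.comp cb = g₂.comp pb := hBu T _ _ (by rw [← AlgHom.comp_assoc, hc, hcb])
    (by rw [← AlgHom.comp_assoc, e₂, hpb])
    (by rw [AlgHom.comp_assoc, hcb', ← AlgHom.comp_assoc, hc', hgjb, AlgHom.comp_assoc, hpb'])
  obtain ⟨h, hh, hh'⟩ := hQex T c hc (sup_le
    (Ideal.map_le_iff_le_comap.2 fun x hx => RingHom.mem_ker.2 ((congr($hcca x)).trans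
      ((congrArg g₁ (RingHom.mem_ker.1 hx)).trans (map_zero _))))
    (Ideal.map_le_iff_le_comap.2 fun x hx => RingHom.mem_ker.2 ((congr($hccb x)).trans
      ((congrArg g₂ (RingHom.mem_ker.1 hx)).trans (map_zero _)))))
  refine ⟨h, ⟨hh, (AlgHom.cancel_right hpas).1 ?_, (AlgHom.cancel_right hpbs).1 ?_⟩, fun h' ⟨hh₀, hh₁, hh₂⟩ => ?_⟩
  · rw [AlgHom.comp_assoc, h₁, ← AlgHom.comp_assoc, hh', hcca]
  · rw [AlgHom.comp_assoc, h₂, ← AlgHom.comp_assoc, hh', hccb]
  · refine (AlgHom.cancel_right hqs).1 ((hCu T _ _ (by rw [← AlgHom.comp_assoc, hh₀, hq]) hc ?_).trans hh'.symm)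
    refine MvPolynomial.algHom_ext fun i => ?_
    rw [hc']
    rcases i with i | i
    · have e := congr($(congrArg (fun φ => h'.comp φ) (show (q.comp ca).comp ιa = i₁.comp ga by
        rw [← h₁, AlgHom.comp_assoc, hpa'])) (MvPolynomial.X i))
      rw [AlgHom.comp_assoc q, hca'] at e
      simp only [AlgHom.comp_apply] at e ⊢
      rw [show h' (i₁ (ga (MvPolynomial.X i))) = g₁ (ga (MvPolynomial.X i)) from congr($hh₁ _)] at e
      simpa [g, ja] using e
    · have e := congr($(congrArg (fun φ => h'.comp φ) (show (q.comp cb).comp ιb = i₂.comp gb by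
        rw [← h₂, AlgHom.comp_assoc, hpb'])) (MvPolynomial.X i))
      rw [AlgHom.comp_assoc q, hcb'] at e
      simp only [AlgHom.comp_apply] at e ⊢
      rw [show h' (i₂ (gb (MvPolynomial.X i))) = g₂ (gb (MvPolynomial.X i)) from congr($hh₂ _)] at e
      simpa [g, jb] using e

end Groth.Agent.ArtFunLib.Completion
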